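import Cfsg.Agent.H334.TI.SocleCore
import Cfsg.Agent.H616.TI.Defs

/-!
# `GoalSocle` (helper334, task 2874 for S4821)
-/

set_option autoImplicit false

universe u

namespace Cfsg.Agent.H334.TI

/-- **`GoalSocle`.** -/
theorem goalSocle : Cfsg.Agent.H616.TI.GoalSocle.{u} := by
  intro G _ _ p _ h h1 h2 hp
  exact socle h h1 h2 hp

end Cfsg.Agent.H334.TI
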