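import Cfsg.Agent.H666.TIBasic
import Cfsg.Agent.Lib.Cores

/-!
# Groups with TI Sylow `p`-subgroups: the simple normal subgroup (helper334, task 2874 for S4821)
-/

set_option autoImplicit false

namespace Cfsg.Agent.H334.TI

open Subgroup Cfsg
open Cfsg.Agent.H666.TI

variable {p : ℕ} {G : Type*} [Group G]

/-- A normal subgroup `K` centralised by a `p`-element `x ≠ 1`, in a group containing `G`... version: `K` normal in `G`,
`K ≤ C(x)`: then the `p`-elements of `K` form a normal `p`-subgroup of `G`. -/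
theorem exists_normal (h : IsTI p G) {K : Subgroup G} [K.Normal] {x : G} (hx : PElt p x) (hx1 : x ≠ 1)
    (hK : ∀ k ∈ K, x * k = k * x) :
    ∃ T : Subgroup G, T.Normal ∧ IsPGroup p T ∧ ∀ k ∈ K, PElt p k → k ∈ T := by
  obtain ⟨P, hP⟩ := exists_sylow_mem hx
  refine ⟨K ⊓ (P : Subgroup G), ⟨?_⟩, P.isPGroup'.to_le inf_le_right, ?_⟩
  · rintro t ⟨htK, htP⟩ g
    have h1 : g * t * g⁻¹ ∈ K := (inferInstance : K.Normal).conj_mem t htK g
    exact ⟨h1, h.mem_of_comm hP hx1 (hK _ h1) ((pElt_of_mem P.isPGroup' htP).conj g)⟩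
  · intro k hk hkp
    exact ⟨hk, h.mem_of_comm hP hx1 (hK k hk) hkp⟩

theorem exists_minimal_normal [Finite G] [Nontrivial G] : ∃ K : Subgroup G, K.Normal ∧ K ≠ ⊥ ∧
    ∀ M : Subgroup G, M.Normal → M ≤ K → M ≠ ⊥ → M = K := by
  obtain ⟨K, ⟨hKn, hK⟩, hmin⟩ := (Set.toFinite {K : Subgroup G | K.Normal ∧ K ≠ ⊥}).exists_minimalFor
    (fun K : Subgroup G => K) _ ⟨⊤, inferInstance, top_ne_bot⟩
  exact ⟨K, hKn, hK, fun M hM hle hne => le_antisymm hle (hmin ⟨hM, hne⟩ hle)⟩

theorem socle [Finite G] [Fact p.Prime] (h : IsTI p G)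
    (h1 : ∀ Q : Subgroup G, Q.Normal → ¬ p ∣ Nat.card Q → Q = ⊥)
    (h2 : ∀ Q : Subgroup G, Q.Normal → IsPGroup p Q → Q = ⊥) (hp : p ∣ Nat.card G) :
    ∃ L : Subgroup G, L.Normal ∧ IsSimpleGroup L ∧ ¬ IsMulCommutative L ∧
      centralizer (L : Set G) = ⊥ ∧ p ∣ Nat.card L := by
  have hpp := (inferInstance : Fact p.Prime).out
  have hnt : Nontrivial G := by
    rw [← Finite.one_lt_card_iff_nontrivial]
    exact hpp.one_lt.trans_le (Nat.le_of_dvd Nat.card_pos hp)
  obtain ⟨L, hLn, hL, hmin⟩ := exists_minimal_normal (G := G)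
  have hpL : p ∣ Nat.card L := by
    by_contra hc
    exact hL (h1 L hLn hc)
  have hntL : Nontrivial L := (Subgroup.nontrivial_iff_ne_bot L).2 hL
  -- the cores of `L` are trivial
  have hO1 : ∀ M : Subgroup L, M.Normal → M ≠ ⊥ → p ∣ Nat.card M := by
    intro M hM hne
    by_contra hc
    have hch := Lib.Cores.pPrimeCore_characteristic (G := L) p
    have h3 : ((pPrimeCore p L).map L.subtype).Normal := inferInstance
    have h4 := h1 _ h3 (by
      rw [Nat.card_congr ((pPrimeCore p L).equivMapOfInjective L.subtype L.subtype_injective).toEquiv.symm]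
      intro hd
      exact hpp.one_lt.ne' (Nat.dvd_one.1 ((Lib.Cores.pPrimeCore_coprime (G := L) p) ▸ Nat.dvd_gcd hd dvd_rfl)))
    rw [Subgroup.map_eq_bot_iff_of_injective _ L.subtype_injective] at h4
    have h5 : M ≤ pPrimeCore p L := Lib.Cores.le_pPrimeCore hM
      ((Nat.Prime.coprime_iff_not_dvd hpp).2 hc).symm
    rw [h4] at h5
    exact hne (le_bot_iff.1 h5)
  have hO2 : ∀ M : Subgroup L, M.Normal → IsPGroup p M → M = ⊥ := by
    intro M hM hMp
    have hch := Lib.Cores.pCore_characteristic (G := L) p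
    have h3 : ((pCore p L).map L.subtype).Normal := inferInstance
    have h4 := h2 _ h3 ((Lib.Cores.pCore_isPGroup p).map _)
    rw [Subgroup.map_eq_bot_iff_of_injective _ L.subtype_injective] at h4
    have h5 : M ≤ pCore p L := Lib.Cores.le_pCore hM hMp
    rw [h4] at h5
    exact le_bot_iff.1 h5
  -- `L` is simple
  have hTIL := h.subgroup L
  obtain ⟨K, hKn, hK, hKmin⟩ := exists_minimal_normal (G := L)
  have hKt : K = ⊤ := by
    by_contra hKt
    obtain ⟨g, hg⟩ : ∃ g : G, ¬ K.map (MulAut.conjNormal g : MulAut L).toMonoidHom ≤ K := by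
      by_contra hno
      push Not at hno
      have h3 : (K.map L.subtype).Normal := by
        refine ⟨?_⟩
        rintro _ ⟨k, hk, rfl⟩ g
        exact ⟨(MulAut.conjNormal g : MulAut L) k, hno g ⟨k, hk, rfl⟩, MulAut.conjNormal_apply g k⟩
      have h4 := hmin _ h3 (Subgroup.map_subtype_le K)
        (fun hc => hK ((Subgroup.map_eq_bot_iff_of_injective _ L.subtype_injective).1 hc))
      apply hKt
      rw [eq_top_iff]
      intro l _
      have h5 : (l : G) ∈ K.map L.subtype := h4.ge l.2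
      obtain ⟨k, hk, hkl⟩ := h5
      rwa [← Subtype.ext (a1 := k) (a2 := l) hkl]
    set K' := K.map (MulAut.conjNormal g : MulAut L).toMonoidHom with hK'
    have hK'n : K'.Normal := hKn.map _ (MulAut.conjNormal g : MulAut L).surjective
    have hcard : Nat.card K' = Nat.card K :=
      (Nat.card_congr (K.equivMapOfInjective _ (MulAut.conjNormal g : MulAut L).injective).toEquiv).symm
    have hdis : K ⊓ K' = ⊥ := by
      by_contra hne
      have h3 := hKmin (K ⊓ K') inferInstance inf_le_left hne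
      have h4 : K ≤ K' := inf_eq_left.1 h3
      exact hg (Subgroup.eq_of_le_of_card_ge h4 hcard.le).ge
    obtain ⟨⟨x, hxK⟩, hx⟩ := exists_prime_orderOf_dvd_card' p (hO1 K hKn hK)
    rw [Subgroup.orderOf_mk] at hx
    have hx1 : x ≠ 1 := by
      rintro rfl
      rw [orderOf_one] at hx
      exact hpp.one_lt.ne hx
    have hcomm : ∀ k ∈ K', x * k = k * x := fun k hk =>
      (Subgroup.commute_of_normal_of_disjoint K K' hKn hK'n (disjoint_iff.2 hdis) x k hxK hk).eq
    obtain ⟨T, hTn, hTp, hT⟩ := exists_normal hTIL (pElt_of_orderOf hx) hx1 hcomm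
    have hT0 := hO2 T hTn hTp
    obtain ⟨⟨y, hyK⟩, hy⟩ := exists_prime_orderOf_dvd_card' p
      (hcard ▸ hO1 K hKn hK : p ∣ Nat.card K')
    rw [Subgroup.orderOf_mk] at hy
    have hy1 := hT y hyK (pElt_of_orderOf hy)
    rw [hT0, Subgroup.mem_bot] at hy1
    rw [hy1, orderOf_one] at hy
    exact hpp.one_lt.ne hy
  have hsimple : IsSimpleGroup L := by
    refine ⟨fun M hM => ?_⟩
    by_cases hMb : M = ⊥
    · exact Or.inl hMb
    · right
      rw [← hKt]
      exact hKmin M hM (hKt ▸ le_top) hMb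
  obtain ⟨⟨x, hxL⟩, hx⟩ := exists_prime_orderOf_dvd_card' p hpL
  have hx' := hx
  rw [Subgroup.orderOf_mk] at hx'
  have hx1 : x ≠ 1 := by
    rintro rfl
    rw [orderOf_one] at hx'
    exact hpp.one_lt.ne hx'
  refine ⟨L, hLn, hsimple, ?_, ?_, hpL⟩
  · intro hcomm
    have h3 : (zpowers (⟨x, hxL⟩ : L)).Normal := ⟨fun n hn g => by
      rw [hcomm.is_comm.comm g n, mul_inv_cancel_right]
      exact hn⟩
    rcases hsimple.eq_bot_or_eq_top_of_normal _ h3 with h4 | h4
    · rw [zpowers_eq_bot] at h4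
      exact hx1 (congrArg Subtype.val h4)
    · have h5 : IsPGroup p L := by
        have h6 := isPGroup_zpowers (p := p) (x := (⟨x, hxL⟩ : L)) (pElt_of_orderOf hx)
        rw [h4] at h6
        exact h6.of_equiv Subgroup.topEquiv
      exact hL (h2 L hLn h5)
  · have hCn : (centralizer (L : Set G)).Normal := inferInstance
    obtain ⟨T, hTn, hTp, hT⟩ := exists_normal h (K := centralizer (L : Set G)) (pElt_of_orderOf hx') hx1
      (fun k hk => (mem_centralizer_iff.1 hk x hxL))
    have hT0 := h2 T hTn hTp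
    apply h1 _ hCn
    intro hd
    obtain ⟨⟨y, hyK⟩, hy⟩ := exists_prime_orderOf_dvd_card' p hd
    rw [Subgroup.orderOf_mk] at hy
    have hy1 := hT y hyK (pElt_of_orderOf hy)
    rw [hT0, Subgroup.mem_bot] at hy1
    rw [hy1, orderOf_one] at hy
    exact hpp.one_lt.ne hy

end Cfsg.Agent.H334.TI
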